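import Cfsg.Agent.H987.QA.TEight
import Cfsg.Agent.H152.QA.PTools
import Cfsg.Agent.H389.QU.Gen
import Cfsg.Agent.S2150

/-!
# S4979, layer (A), row `PSU_4(5)` (helper622)
-/

set_option autoImplicit false
set_option linter.unusedSectionVars false

open Cfsg

namespace Cfsg.Agent.H622.QA

open Cfsg.Agent.H152.QA Cfsg.Agent.H80.Fpf

section

variable {p q : ℕ} {G V S : Type} [Group G] [Finite G] [AddCommGroup V] [Finite V] [DistribMulAction G V]
  [Group S] [Finite S] [IsSimpleGroup S] {ψ : G →* S}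

/-- numerical form of the chain criterion -/
theorem chain_num (h : PSit p q G V) (hψ : IsCover ψ) {B : ℕ} (hB : Cfsg.Agent.H122.MinDeg G B) {D : ℕ}
    (hD0 : p + 1 ≤ D) (hD : ∀ H : Subgroup S, H ≠ ⊤ → D ≤ H.index) {q0 k A m0 c0 : ℕ} (hq0 : q0 ≤ q)
    (hk : p ^ k ∣ Nat.card S) (hA : Nat.card S ≤ p ^ k * A) (hc : A < q0 ^ (c0 + 1))
    (hm : A < (p + 1) ^ (m0 - 1) * D) (hm1 : 1 ≤ m0) (hnum : m0 * c0 < B) (hq01 : 1 ≤ q0) : False := by
  have hp := h.hp
  have : Fact p.Prime := ⟨hp⟩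
  have hpk : 0 < p ^ k := pow_pos hp.pos k
  obtain ⟨m, c, d, h1, h2, h3, h4, h5⟩ := Cfsg.Agent.H987.QA.PSit.chain' h hψ hD0 hD
  obtain ⟨d', hd', hBd⟩ := h.exists_dim hB
  have hd : d' = d := Nat.pow_right_injective h.hq.two_le (hd'.symm.trans h3)
  have hfac : k ≤ (Nat.card S).factorization p := (hp.pow_dvd_iff_le_factorization Nat.card_pos.ne').1 hk
  have hproj : p ^ k ≤ ordProj[p] (Nat.card S) := Nat.pow_le_pow_right hp.pos hfac
  have hC : ordCompl[p] (Nat.card S) ≤ A := by
    refine Nat.le_of_mul_le_mul_left ?_ hpk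
    calc p ^ k * ordCompl[p] (Nat.card S) ≤ ordProj[p] (Nat.card S) * ordCompl[p] (Nat.card S) :=
          Nat.mul_le_mul_right _ hproj
      _ = Nat.card S := Nat.ordProj_mul_ordCompl_eq_self _ p
      _ ≤ _ := hA
  have hSy : Nat.card (Sylow p S) ≤ A := by
    obtain ⟨P⟩ : Nonempty (Sylow p S) := inferInstance
    have e1 : Nat.card (Sylow p S) ∣ (P : Subgroup S).index := Sylow.card_dvd_index P
    have e2 : Nat.card (P : Subgroup S) = ordProj[p] (Nat.card S) := Sylow.card_eq_multiplicity P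
    have e3 := Subgroup.card_mul_index (P : Subgroup S)
    have e4 : (P : Subgroup S).index ≤ A := by
      refine Nat.le_of_mul_le_mul_left ?_ hpk
      calc p ^ k * (P : Subgroup S).index ≤ Nat.card (P : Subgroup S) * (P : Subgroup S).index :=
            Nat.mul_le_mul_right _ (by rw [e2]; exact hproj)
        _ = Nat.card S := e3
        _ ≤ _ := hA
    exact (Nat.le_of_dvd (Nat.pos_of_ne_zero Subgroup.index_ne_zero_of_finite) e1).trans e4
  have hcc : c ≤ c0 := by
    by_contra hcon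
    have e1 : q0 ^ (c0 + 1) ≤ q ^ c :=
      (Nat.pow_le_pow_left hq0 _).trans (Nat.pow_le_pow_right h.hq.pos (by omega))
    omega
  have hmm : m ≤ m0 := by
    by_contra hcon
    rcases h2 with rfl | h2
    · omega
    · have e1 : (p + 1) ^ (m0 - 1) ≤ (p + 1) ^ (m - 2) := Nat.pow_le_pow_right (by omega) (by omega)
      have e2 : (p + 1) ^ (m0 - 1) * D ≤ (p + 1) ^ (m - 2) * D := Nat.mul_le_mul_right _ e1
      omega
  have : m * c ≤ m0 * c0 := Nat.mul_le_mul hmm hcc
  omega

end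

theorem card_u45 {F : Type} [Field F] [Fintype F] (hF : Fintype.card F = 5 ^ 2) :
    Nat.card (PSU 4 F 5) = 14742000000 := by
  have h1 := Cfsg.Agent.H389.QU.card_psu hF (n := 4) (by norm_num)
  have h2 : ∏ i ∈ Finset.range (4 - 1), Cfsg.Agent.H948.UProd.ph 5 (i + 1) = 24 * 126 * 624 := by
    decide
  rw [h2] at h1
  norm_num at h1
  omega

/-- **`PSU_4(5)`** -/
theorem row_u45 {F : Type} [Field F] [Fintype F] (hF : Fintype.card F = 5 ^ 2) : NoSit (PSU 4 F 5) := by
  classical
  intro p q L V _ _ _ _ _ π N φ hπ h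
  have := Cfsg.Agent.H389.QU.simple (n := 4) hF (by norm_num) (by norm_num)
  have hcard := card_u45 hF
  have hmul : MultDvd (PSU 4 F 5) 2 := by
    have h1 := Cfsg.Agent.H389.QU.multDvd' (n := 4) hF (by norm_num) (by norm_num) (by norm_num) (by norm_num)
      (by norm_num)
    have h2 : Nat.gcd 4 (5 + 1) = 2 := by norm_num
    rwa [h2] at h1
  have hBm : MinDeg (PSU 4 F 5) 104 := by
    have := Cfsg.Agent.H389.QU.minDeg_even (n := 4) hF le_rfl (by decide) (by norm_num) (by norm_num) (by norm_num)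
    norm_num at this
    exact this
  obtain ⟨G, _, _, _, ψ, hψ, -, -, hP⟩ := h.exists_pSit' hπ
  have hB := minDeg_of_cover hψ hBm
  have hpS : p ∣ Nat.card (PSU 4 F 5) := Cfsg.Agent.H306.QA.p_dvd h hπ
  have hqS : ¬ q ∣ Nat.card (PSU 4 F 5) := Cfsg.Agent.H306.QA.q_not_dvd h hπ
  rw [hcard] at hpS hqS
  have hq11 : 11 ≤ q := by
    by_contra hcon
    have h2 := h.hq.two_le
    have hq := h.hq
    interval_cases q <;> revert hq hqS <;> norm_num
  have hD : ∀ H : Subgroup (PSU 4 F 5), H ≠ ⊤ → 756 ≤ H.index := by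
    have := (Cfsg.Agent.S2150.result 5 hF (by norm_num)).1
    norm_num at this
    exact this
  have hpc : p = 3 ∨ p = 5 ∨ p = 7 ∨ p = 13 := by
    have h1 : (14742000000 : ℕ) = 2 ^ 7 * (3 ^ 4 * (5 ^ 6 * (7 * 13))) := by norm_num
    rw [h1] at hpS
    have key : ∀ {a : ℕ}, a.Prime → p ∣ a → p = a := fun ha hd => (Nat.prime_dvd_prime_iff_eq h.hp ha).1 hd
    rcases (Nat.Prime.dvd_mul h.hp).1 hpS with hd | hd
    · exact absurd (key Nat.prime_two (h.hp.dvd_of_dvd_pow hd)) h.odd
    rcases (Nat.Prime.dvd_mul h.hp).1 hd with hd | hd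
    · exact Or.inl (key (by norm_num) (h.hp.dvd_of_dvd_pow hd))
    rcases (Nat.Prime.dvd_mul h.hp).1 hd with hd | hd
    · exact Or.inr (Or.inl (key (by norm_num) (h.hp.dvd_of_dvd_pow hd)))
    rcases (Nat.Prime.dvd_mul h.hp).1 hd with hd | hd
    · exact Or.inr (Or.inr (Or.inl (key (by norm_num) hd)))
    · exact Or.inr (Or.inr (Or.inr (key (by norm_num) hd)))
  rcases hpc with rfl | rfl | rfl | rfl
  · exact chain_num hP hψ hB (D := 756) (by norm_num) hD (q0 := 11) (k := 4) (A := 182000000) (m0 := 10) (c0 := 7)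
      hq11 (by rw [hcard]; norm_num) (by rw [hcard]; norm_num) (by norm_num) (by norm_num) (by norm_num) (by norm_num)
      (by norm_num)
  · exact chain_num hP hψ hB (D := 756) (by norm_num) hD (q0 := 11) (k := 6) (A := 943488) (m0 := 8) (c0 := 5)
      hq11 (by rw [hcard]; norm_num) (by rw [hcard]; norm_num) (by norm_num) (by norm_num) (by norm_num) (by norm_num)
      (by norm_num)
  · exact chain_num hP hψ hB (D := 756) (by norm_num) hD (q0 := 11) (k := 1) (A := 2106000000) (m0 := 10) (c0 := 8)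
      hq11 (by rw [hcard]; norm_num) (by rw [hcard]; norm_num) (by norm_num) (by norm_num) (by norm_num) (by norm_num)
      (by norm_num)
  · exact chain_num hP hψ hB (D := 756) (by norm_num) hD (q0 := 11) (k := 1) (A := 1134000000) (m0 := 9) (c0 := 8)
      hq11 (by rw [hcard]; norm_num) (by rw [hcard]; norm_num) (by norm_num) (by norm_num) (by norm_num) (by norm_num)
      (by norm_num)

end Cfsg.Agent.H622.QA
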